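import Groth.Agent.QCoh.Support
import Groth.Agent.QCoh.Stalk
import Groth.Agent.QCoh.LocFree
import Groth.Agent.QCoh.DevissageP
import Groth.Agent.KFlatLib.Scheme.Exact
import Mathlib.RingTheory.Ideal.KrullsHeightTheorem
import Mathlib.LinearAlgebra.Determinant
import Mathlib

/-!
# A monomorphism of locally free modules degenerates in codimension at most one
-/

set_option autoImplicit false
set_option linter.style.haveILetI false
set_option backward.isDefEq.respectTransparency false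
set_option backward.isDefEq.respectTransparency.types false

universe u

open CategoryTheory CategoryTheory.Limits AlgebraicGeometry

namespace Groth.Agent.CodimIso

open IsLocalRing in
theorem ringKrullDim_le_one_of_degenerate {A M N : Type u} [CommRing A] [IsDomain A] [IsNoetherianRing A]
    [IsLocalRing A] [AddCommGroup M] [Module A M] [Module.Free A M] [Module.Finite A M] [AddCommGroup N] [Module A N]
    [Module.Free A N] [Module.Finite A N] (φ : M →ₗ[A] N) (hinj : Function.Injective φ)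
    (hsurj : ¬ Function.Surjective φ)
    (h : ∀ a ∈ maximalIdeal A, ∃ n : ℕ, ∀ z : N, a ^ n • z ∈ LinearMap.range φ) : ringKrullDim A ≤ 1 := by
  rw [← IsLocalRing.maximalIdeal_height_eq_ringKrullDim]
  by_cases hm : maximalIdeal A = ⊥
  · rw [hm, Ideal.height_bot]
    simp
  let b := Module.Free.chooseBasis A N
  have hψ : ∀ a ∈ maximalIdeal A, ∃ (n : ℕ) (ψ : N →ₗ[A] M), φ ∘ₗ ψ = a ^ n • LinearMap.id := fun a ha => by
    obtain ⟨n, hn⟩ := h a ha
    choose c hc using hn
    refine ⟨n, b.constr A fun i => c (b i), b.ext fun i => ?_⟩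
    rw [LinearMap.comp_apply, b.constr_basis, hc, LinearMap.smul_apply, LinearMap.id_apply]
  obtain ⟨a₀, ha₀, hne⟩ := Submodule.exists_mem_ne_zero_of_ne_bot hm
  have hrank : Module.finrank A M = Module.finrank A N := by
    refine le_antisymm (LinearMap.finrank_le_finrank_of_injective hinj) ?_
    obtain ⟨n, ψ, e⟩ := hψ a₀ ha₀
    refine LinearMap.finrank_le_finrank_of_injective (f := ψ) fun x y hxy => ?_
    have h1 := congrArg φ hxy
    rw [← LinearMap.comp_apply, ← LinearMap.comp_apply, e, LinearMap.smul_apply, LinearMap.smul_apply,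
      LinearMap.id_apply, LinearMap.id_apply] at h1
    exact smul_right_injective N (pow_ne_zero n hne) h1
  let e : N ≃ₗ[A] M := LinearEquiv.ofFinrankEq N M hrank.symm
  let f : N →ₗ[A] N := φ ∘ₗ e.toLinearMap
  have hdet : ∀ a ∈ maximalIdeal A, ∃ (n : ℕ) (c : A), LinearMap.det f * c = (a ^ n) ^ Module.finrank A N :=
    fun a ha => by
    obtain ⟨n, ψ, h1⟩ := hψ a ha
    refine ⟨n, LinearMap.det (e.symm.toLinearMap ∘ₗ ψ), ?_⟩
    have : f ∘ₗ (e.symm.toLinearMap ∘ₗ ψ) = φ ∘ₗ ψ := by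
      ext z
      simp [f]
    rw [← LinearMap.det_comp, this, h1, LinearMap.det_smul, LinearMap.det_id, mul_one]
  have hnu : ¬ IsUnit (LinearMap.det f) := fun hu => hsurj <| by
    haveI := Module.Free.chooseBasis A N
    have := (LinearEquiv.ofIsUnitDet (v := b) (v' := b) (f := f) (by rwa [LinearMap.det_toMatrix])).surjective
    exact fun z => by
      obtain ⟨y, hy⟩ := this z
      exact ⟨e y, hy⟩
  obtain ⟨q, hq, hqm⟩ := Ideal.exists_minimalPrimes_le
    (show Ideal.span {LinearMap.det f} ≤ maximalIdeal A by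
      rw [Ideal.span_singleton_le_iff_mem]
      exact (mem_maximalIdeal _).2 hnu)
  haveI := hq.1.1
  have hq1 := Ideal.height_le_one_of_isPrincipal_of_mem_minimalPrimes _ q hq
  have hqeq : maximalIdeal A ≤ q := fun a ha => by
    obtain ⟨n, c, hc⟩ := hdet a ha
    have : (a ^ n) ^ Module.finrank A N ∈ q :=
      hc ▸ Ideal.mul_mem_right c q (hq.1.2 (Ideal.mem_span_singleton_self _))
    rw [← pow_mul] at this
    exact (inferInstance : q.IsPrime).mem_of_pow_mem _ this
  rw [le_antisymm hqeq hqm]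
  exact_mod_cast hq1

variable {X : Scheme.{u}}

/-- At a minimal point of the support of a coherent module the stalk is killed by powers of the maximal ideal. -/
theorem exists_minimal_support_point [IsLocallyNoetherian X] {C : X.Modules} (hC : Coh.IsCoh C)
    (hne : (CohB1.support C).Nonempty) :
    ∃ x ∈ CohB1.support C, ∀ a ∈ IsLocalRing.maximalIdeal (X.presheaf.stalk x),
      ∃ n : ℕ, ∀ z : C.presheaf.stalk x, a ^ n • z = 0 := by
  obtain ⟨x₀, hx₀⟩ := hne
  obtain ⟨_, ⟨U, hU, rfl⟩, hxU, -⟩ :=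
    X.isBasis_affineOpens.exists_subset_of_mem_open (Set.mem_univ x₀) isOpen_univ
  have hU' : IsAffineOpen U := hU
  haveI := QCoh.finite_sections hC hU'
  let J := Module.annihilator Γ(X, U) Γ(C, U)
  have hJ : J ≤ (hU'.primeIdealOf ⟨x₀, hxU⟩).asIdeal :=
    Module.mem_support_iff_of_finite.1 ((QCoh.mem_moduleSupport_iff hC.1 hU' hxU).2 hx₀)
  obtain ⟨p, hp, -⟩ := Ideal.exists_minimalPrimes_le hJ
  haveI := hp.1.1
  obtain ⟨x, hx, hxp⟩ := QCoh.exists_point hU' ⟨p, hp.1.1⟩
  refine ⟨x, (QCoh.mem_moduleSupport_iff hC.1 hU' hx).1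
    (Module.mem_support_iff_of_finite.2 (by rw [hxp]; exact hp.1.2)), fun a ha => ?_⟩
  letI := QCoh.stalkAlg (X := X) hx
  letI := QCoh.stalkModule C hx
  haveI := QCoh.isScalarTower_stalk C hx
  haveI hloc := QCoh.isLocalization_stalk' hU' hx
  haveI hmod := QCoh.isLocalizedModule_germLin hC.1 hU' hx
  obtain ⟨⟨r, s⟩, hrs⟩ := IsLocalization.surj (hU'.primeIdealOf ⟨x, hx⟩).asIdeal.primeCompl a
  have hrp : r ∈ p := by
    by_contra hr
    have hr' : r ∈ (hU'.primeIdealOf ⟨x, hx⟩).asIdeal.primeCompl := by rw [hxp]; exact hr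
    have hu : IsUnit (algebraMap Γ(X, U) (X.presheaf.stalk x) r) := IsLocalization.map_units _ ⟨r, hr'⟩
    rw [← hrs] at hu
    exact (IsLocalRing.mem_maximalIdeal a).1 ha (isUnit_of_mul_isUnit_left hu)
  obtain ⟨n, t, ht, hJt⟩ : ∃ (n : ℕ) (t : Γ(X, U)), t ∉ p ∧ t * r ^ n ∈ J := by
    by_contra hc
    push Not at hc
    have hd : Disjoint (J : Set Γ(X, U)) (p.primeCompl ⊔ Submonoid.powers r : Submonoid Γ(X, U)) := by
      rw [Set.disjoint_left]
      intro z hz hz'
      obtain ⟨t, ht, _, ⟨n, rfl⟩, rfl⟩ := Submonoid.mem_sup.1 hz'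
      exact hc n t ht hz
    obtain ⟨q, hq, hJq, hqd⟩ := Ideal.exists_le_prime_disjoint _ _ hd
    have hqp : q ≤ p := fun z hz => by
      by_contra h
      exact Set.disjoint_left.1 hqd hz (SetLike.le_def.1 le_sup_left h)
    have hrq : r ∈ q := hp.2 ⟨hq, hJq⟩ hqp hrp
    exact Set.disjoint_left.1 hqd hrq (SetLike.le_def.1 le_sup_right (Submonoid.mem_powers r))
  have htu : IsUnit (algebraMap Γ(X, U) (X.presheaf.stalk x) t) :=
    IsLocalization.map_units (M := (hU'.primeIdealOf ⟨x, hx⟩).asIdeal.primeCompl) _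
      ⟨t, by rw [hxp]; exact ht⟩
  have hsu : IsUnit (algebraMap Γ(X, U) (X.presheaf.stalk x) (s : Γ(X, U))) := IsLocalization.map_units _ s
  refine ⟨n, fun z => ?_⟩
  obtain ⟨⟨m, w⟩, hw⟩ := IsLocalizedModule.surj (hU'.primeIdealOf ⟨x, hx⟩).asIdeal.primeCompl
    (QCoh.germLin C hx) z
  have hwu : IsUnit (algebraMap Γ(X, U) (X.presheaf.stalk x) (w : Γ(X, U))) := IsLocalization.map_units _ w
  refine (((htu.mul (hsu.pow n)).mul hwu).smul_eq_zero).1 ?_
  have h1 : (t * r ^ n) • m = 0 := Module.mem_annihilator.1 hJt m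
  have h2 := congrArg (QCoh.germLin C hx) h1
  rw [map_smul, map_zero, ← hw, Submonoid.smul_def, ← smul_assoc, ← algebraMap_smul (X.presheaf.stalk x),
    smul_eq_mul, map_mul, map_mul, map_pow, ← hrs, mul_pow] at h2
  rw [smul_smul, ← h2]
  congr 1
  ring

theorem exists_support_dim_le_one [IsLocallyNoetherian X] [IsIntegral X] {M N : X.Modules}
    (hM : FlatMod.IsFinLocFree M) (hN : FlatMod.IsFinLocFree N) (φ : M ⟶ N) [Mono φ] (hφ : ¬ IsIso φ) :
    ∃ x : X, x ∈ CohB1.support (cokernel φ) ∧ ringKrullDim (X.presheaf.stalk x) ≤ 1 := by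
  have hMq := QCoh.isQCoh_of_isFinLocFree hM
  have hNq := QCoh.isQCoh_of_isFinLocFree hN
  have hNc : Coh.IsCoh N := QCoh.isCoh_iff_isFP.2 (QCoh.isFP_of_isFinLocFree hN)
  have hC : Coh.IsCoh (cokernel φ) := QCoh.isCoh_cokernel hMq hNc φ
  have hne : (CohB1.support (cokernel φ)).Nonempty := by
    by_contra hn
    apply hφ
    have hz : IsZero (cokernel φ) := KFlatLib.isZero_of_stalk _ fun x => by
      haveI : Subsingleton ((cokernel φ).presheaf.stalk x) := not_not.1 fun h => hn ⟨x, h⟩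
      exact @ModuleCat.isZero_of_subsingleton _ _ ((DerSch.stalkFunctor X x).obj (cokernel φ)) this
    haveI : Epi φ := Abelian.epi_of_cokernel_π_eq_zero φ (hz.eq_of_tgt _ _)
    exact isIso_of_mono_of_epi φ
  obtain ⟨x, hx, hpow⟩ := exists_minimal_support_point hC hne
  refine ⟨x, hx, ?_⟩
  haveI := QCoh.free_stalk_of_isFinLocFree hM x
  haveI := QCoh.free_stalk_of_isFinLocFree hN x
  haveI : Module.Finite (X.presheaf.stalk x) (M.presheaf.stalk x) :=
    QCoh.finite_stalk_of_isFT hMq (QCoh.isFT_of_isFP (QCoh.isFP_of_isFinLocFree hM)) x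
  haveI : Module.Finite (X.presheaf.stalk x) (N.presheaf.stalk x) :=
    QCoh.finite_stalk_of_isFT hNq (QCoh.isFT_of_isFP (QCoh.isFP_of_isFinLocFree hN)) x
  let F := DerSch.stalkFunctor X x
  have hS : (ShortComplex.mk φ (cokernel.π φ) (cokernel.condition φ)).ShortExact :=
    { exact := ShortComplex.exact_cokernel φ, mono_f := inferInstance, epi_g := inferInstance }
  have hS' := hS.map_of_exact F
  have hex := (ShortComplex.moduleCat_exact_iff _).1 hS'.exact
  haveI := hS'.mono_f
  haveI := hS'.epi_g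
  refine ringKrullDim_le_one_of_degenerate (M := M.presheaf.stalk x) (N := N.presheaf.stalk x) (F.map φ).hom
    ((ModuleCat.mono_iff_injective (F.map φ)).1 hS'.mono_f) (fun hs => ?_) fun a ha => ?_
  · refine hx ⟨fun y z => ?_⟩
    have h0 : ∀ y : (cokernel φ).presheaf.stalk x, y = 0 := fun y => by
      obtain ⟨v, rfl⟩ := (ModuleCat.epi_iff_surjective (F.map (cokernel.π φ))).1 hS'.epi_g y
      obtain ⟨w, rfl⟩ := hs v
      exact LinearMap.congr_fun (congrArg ModuleCat.Hom.hom
        (show F.map φ ≫ F.map (cokernel.π φ) = 0 by rw [← F.map_comp, cokernel.condition, F.map_zero])) w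
    rw [h0 y, h0 z]
  · obtain ⟨n, hn⟩ := hpow a ha
    refine ⟨n, fun z => hex (a ^ n • z) ?_⟩
    exact (map_smul (F.map (cokernel.π φ)).hom (a ^ n) z).trans (hn _)

end Groth.Agent.CodimIso
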